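import Groth.Agent.Lib.ASBun21.SplitCrit
import Groth.Agent.Lib.ASBun21.SplitExt
import Groth.Agent.Lib.ASBun21.StablyBirational
import Groth.Agent.Lib.ProjPic26.Over
import Groth.Agent.Lib.EtSite.FpqcDescent
import Groth.Agent.S4839
import Groth.Agent.S4829
import Groth.Agent.S1550
import Groth.Agent.Lib.BaseChange.AlgClosedIn
import Groth.Prelude.Def_W4bk4gw11416BS
import Mathlib.FieldTheory.Galois.Basic
import Mathlib.FieldTheory.Normal.Closure
import Mathlib.AlgebraicGeometry.Morphisms.LocalFlatDescent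

/-!
# Brauer-Severi schemes over a field
-/

set_option autoImplicit false
set_option linter.all false
set_option backward.isDefEq.respectTransparency false
set_option maxHeartbeats 600000

universe u

open CategoryTheory CategoryTheory.Limits AlgebraicGeometry
attribute [local instance] Curv2.resAlgebra

noncomputable section

namespace GrothLib.BSev5

open GrothLib.ProjPic26 (chi)
open GrothLib.ASBun21

variable {k : Type u} [Field k] {X : Scheme.{u}} {p : X ⟶ Spec (CommRingCat.of k)}

/-- Projective space after extension of the field. -/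
theorem exists_splitting_projSpace (n : ℕ) (K : Type u) [Field K] [Algebra k K] :
    Nonempty (BrSev.Splitting (CohB1.ProjSpace.toSpec n k) K n) := by
  let t : Spec (CommRingCat.of K) ⟶ Spec (CommRingCat.of k) := Spec.map (CommRingCat.ofHom (algebraMap k K))
  let m : CohB1.ProjSpace n K ⟶ CohB1.ProjSpace n k :=
    (ProjPic26.isPullback_chi n k).lift (chi n K) (CohB1.ProjSpace.toSpec n K ≫ t)
      ((ProjPic26.isPullback_chi n K).w.trans (by
        rw [Category.assoc]; exact congrArg _ (specULiftZIsTerminal.hom_ext _ _)))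
  have hm : IsPullback m (CohB1.ProjSpace.toSpec n K) (CohB1.ProjSpace.toSpec n k) t := by
    refine IsPullback.of_right ?_ (IsPullback.lift_snd _ _ _ _) (ProjPic26.isPullback_chi n k)
    rw [IsPullback.lift_fst, show t ≫ specULiftZIsTerminal.from (Spec (CommRingCat.of k)) =
      specULiftZIsTerminal.from _ from specULiftZIsTerminal.hom_ext _ _]
    exact ProjPic26.isPullback_chi n K
  exact ⟨⟨hm.isoPullback.symm, by rw [Iso.symm_hom, IsPullback.isoPullback_inv_snd]⟩⟩

theorem fpqc_field (K : Type u) [Field K] [Algebra k K] :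
    (@Surjective ⊓ @Flat ⊓ @QuasiCompact : MorphismProperty Scheme.{u})
      (Spec.map (CommRingCat.ofHom (algebraMap k K))) := by
  obtain ⟨hf, hs⟩ := (flat_and_surjective_SpecMap_iff (CommRingCat.ofHom (algebraMap k K))).2 (by
    rw [CommRingCat.hom_ofHom, RingHom.faithfullyFlat_algebraMap_iff]; infer_instance)
  exact ⟨⟨hs, hf⟩, inferInstance⟩

/-- A Brauer-Severi scheme is split by a finite extension. -/
theorem exists_splitting_finite (hX : W4bk4gw11416.IsBrauerSeveri p) :
    ∃ (k' : Type u) (_ : Field k') (_ : Algebra k k') (_ : Module.Finite k k') (n : ℕ),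
      Nonempty (BrSev.Splitting p k' n) := by
  obtain ⟨K, _, _, n, e, he⟩ := hX
  have hb := fpqc_field (k := k) K
  have hK : IsProper (pullback.snd p (Spec.map (CommRingCat.ofHom (algebraMap k K)))) := by
    rw [show pullback.snd p (Spec.map (CommRingCat.ofHom (algebraMap k K))) = e.hom ≫ CohB1.ProjSpace.toSpec n K
      from he.symm]
    haveI := Chow.isProper_toSpec n K
    infer_instance
  haveI : IsProper p := MorphismProperty.of_isPullback_of_descendsAlong (P := @IsProper)
    (Q := EtSite.fpqcCov) (IsPullback.of_hasPullback p _).flip hb hK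
  haveI : IsProper (CohB1.ProjSpace.toSpec n k) := Chow.isProper_toSpec n k
  obtain ⟨ε⟩ := exists_splitting_projSpace (k := k) n K
  obtain ⟨k', _, _, hk', e', he'⟩ := Groth.Agent.S4839.result p (CohB1.ProjSpace.toSpec n k) K
    (e ≪≫ ε.iso.symm) (by
      rw [Iso.trans_hom, Category.assoc, Iso.symm_hom, show pullback.snd (CohB1.ProjSpace.toSpec n k)
        (Spec.map (CommRingCat.ofHom (algebraMap k K))) = ε.iso.hom ≫ CohB1.ProjSpace.toSpec n K from ε.comm.symm,
        Iso.inv_hom_id_assoc]
      exact he)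
  obtain ⟨ε'⟩ := exists_splitting_projSpace (k := k) n k'
  exact ⟨k', inferInstance, inferInstance, hk', n, ⟨⟨e' ≪≫ ε'.iso, by
    rw [Iso.trans_hom, Category.assoc, ε'.comm]; exact he'⟩⟩⟩

/-- A Brauer-Severi scheme is split by an algebraic closure. -/
theorem exists_splitting_closure (hX : W4bk4gw11416.IsBrauerSeveri p) :
    IsProper p ∧ ∀ (Ω : Type u) [Field Ω] [Algebra k Ω] [IsAlgClosed Ω],
      ∃ n : ℕ, Nonempty (BrSev.Splitting p Ω n) := by
  obtain ⟨k', _, _, hk', n, ⟨e⟩⟩ := exists_splitting_finite hX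
  refine ⟨isProper_of_splitting e, fun Ω _ _ _ => ?_⟩
  haveI : Algebra.IsAlgebraic k k' := Algebra.IsAlgebraic.of_finite k k'
  let ψ : k' →ₐ[k] Ω := IsAlgClosed.lift
  letI : Algebra k' Ω := ψ.toRingHom.toAlgebra
  haveI : IsScalarTower k k' Ω := IsScalarTower.of_algebraMap_eq fun x => (ψ.commutes x).symm
  obtain ⟨ε, -, -, -⟩ := exists_splitting_ext e Ω
  exact ⟨n, ⟨ε⟩⟩

/-- Extension of the field in two steps. -/
theorem splitting_trans (K L : Type u) [Field K] [Algebra k K] [Field L] [Algebra k L] [Algebra K L]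
    [IsScalarTower k K L] {n : ℕ} (ε : BrSev.Splitting p L n) :
    Nonempty (BrSev.Splitting (BrSev.bcTo p K) L n) := by
  have hc : Spec.map (CommRingCat.ofHom (algebraMap K L)) ≫ Spec.map (CommRingCat.ofHom (algebraMap k K)) =
      Spec.map (CommRingCat.ofHom (algebraMap k L)) :=
    (Spec.map_comp _ _).symm.trans (congrArg Spec.map (CommRingCat.hom_ext (IsScalarTower.algebraMap_eq k K L).symm))
  have h := (IsPullback.of_hasPullback (BrSev.bcTo p K) (Spec.map (CommRingCat.ofHom (algebraMap K L)))).paste_horiz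
    (IsPullback.of_hasPullback p (Spec.map (CommRingCat.ofHom (algebraMap k K))))
  rw [hc] at h
  exact ⟨⟨h.isoPullback ≪≫ ε.iso, by rw [Iso.trans_hom, Category.assoc, ε.comm, IsPullback.isoPullback_hom_snd]⟩⟩

/-- A split scheme is projective space. -/
theorem isProjSpaceOver_of_splitting {n : ℕ} (ε : BrSev.Splitting p k n) :
    W4bk4gw11416.IsProjSpaceOver p n := by
  have hid : Spec.map (CommRingCat.ofHom (algebraMap k k)) = 𝟙 _ := by
    rw [Algebra.algebraMap_self]; exact Spec.map_id _
  haveI : IsIso (Spec.map (CommRingCat.ofHom (algebraMap k k))) := by rw [hid]; infer_instance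
  refine ⟨(asIso (BrSev.proj p k)).symm ≪≫ ε.iso, ?_⟩
  rw [Iso.trans_hom, Category.assoc, ε.comm, Iso.symm_hom, asIso_inv, IsIso.inv_comp_eq]
  exact ((pullback.condition (f := p) (g := Spec.map (CommRingCat.ofHom (algebraMap k k)))).trans
    ((congrArg (_ ≫ ·) hid).trans (Category.comp_id _))).symm

/-- With a rational point. -/
theorem isProjSpaceOver_of_point (hX : W4bk4gw11416.IsBrauerSeveri p)
    (s : Spec (CommRingCat.of k) ⟶ X) (hs : s ≫ p = 𝟙 _) : ∃ n, W4bk4gw11416.IsProjSpaceOver p n := by
  obtain ⟨hp, h⟩ := exists_splitting_closure hX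
  haveI := hp
  obtain ⟨n, ⟨ε⟩⟩ := h (AlgebraicClosure k)
  obtain ⟨e⟩ := nonempty_splitting_of_point p ε s hs
  exact ⟨n, isProjSpaceOver_of_splitting e⟩

theorem smooth_and_integral_and_projective (hX : W4bk4gw11416.IsBrauerSeveri p) :
    Smooth p ∧ GeometricallyIntegral p ∧
      ∃ (N : ℕ) (i : X ⟶ CohB1.ProjSpace N k), IsClosedImmersion i ∧ i ≫ CohB1.ProjSpace.toSpec N k = p := by
  obtain ⟨K, _, _, hK, n, ⟨e⟩⟩ := exists_splitting_finite hX
  have hb := fpqc_field (k := k) K
  refine ⟨?_, geometricallyIntegral_of_splitting e, ?_⟩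
  · have h : Smooth (BrSev.bcTo p K) := by
      rw [← e.comm]
      haveI := CurveMult.smooth_toSpec n K
      infer_instance
    exact MorphismProperty.of_isPullback_of_descendsAlong (P := @Smooth)
      (Q := @Surjective ⊓ @Flat ⊓ @QuasiCompact) (IsPullback.of_hasPullback p _).flip hb h
  · haveI := ProjIso26.isIso_toProjSpace n K
    obtain ⟨N, i, hi, hi'⟩ := Groth.Agent.S4829.result p K ⟨n, e.iso.hom ≫ inv (Ample.ProjMap.toProjSpace n K),
      inferInstance, by
        rw [Category.assoc, ← Ample.ProjMap.toProjSpace_toSpec n K, IsIso.inv_hom_id_assoc]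
        exact e.comm⟩
    haveI := hi
    haveI := ProjIso26.isIso_toProjSpace N k
    refine ⟨N, i ≫ Ample.ProjMap.toProjSpace N k, inferInstance, ?_⟩
    rw [Category.assoc, Ample.ProjMap.toProjSpace_toSpec]
    exact hi'

/-- Splitting by a finite Galois extension. -/
theorem exists_galois (hX : W4bk4gw11416.IsBrauerSeveri p) :
    ∃ (K : Type u) (_ : Field K) (_ : Algebra k K), FiniteDimensional k K ∧ IsGalois k K ∧
      ∃ n : ℕ, W4bk4gw11416.IsProjSpaceOver (W4bk4gw11416.baseChangeTo p K) n := by
  obtain ⟨hsm, hgi, -⟩ := smooth_and_integral_and_projective hX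
  obtain ⟨hp, h⟩ := exists_splitting_closure hX
  haveI := hgi
  haveI := hp
  letI : X.Over (Spec (CommRingCat.of k)) := ⟨p⟩
  haveI : Smooth (X ↘ Spec (CommRingCat.of k)) := hsm
  haveI : Nonempty X := by
    obtain ⟨n, ⟨ε⟩⟩ := h (AlgebraicClosure k)
    haveI : IsIntegral (CohB1.ProjSpace n (AlgebraicClosure k)) := ProjDim.isIntegral_proj _ n
    exact ⟨BrSev.proj p (AlgebraicClosure k) (ε.iso.inv (Classical.arbitrary _))⟩
  obtain ⟨x, hxc, hfin, hsep⟩ := (Groth.Agent.S1550.result k X).nonempty
  haveI := hfin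
  haveI := hsep
  let Ω := AlgebraicClosure k
  let σ : X.residueField x →ₐ[k] Ω := IsAlgClosed.lift
  let L : IntermediateField k Ω := IntermediateField.normalClosure k (X.residueField x) Ω
  haveI : FiniteDimensional k L := inferInstance
  have hLs : L ≤ separableClosure k Ω := by
    refine normalClosure_le_iff.2 fun f => ?_
    rintro _ ⟨z, rfl⟩
    refine mem_separableClosure_iff.2 ?_
    show (minpoly k (f z)).Separable
    rw [minpoly.algHom_eq f f.injective z]
    exact Algebra.IsSeparable.isSeparable k z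
  haveI : Algebra.IsSeparable k L := (le_separableClosure_iff k Ω L).1 hLs
  haveI : IsGalois k L := {}
  have hσ : ∀ z, σ z ∈ L := fun z => σ.fieldRange_le_normalClosure ⟨z, rfl⟩
  let σL : X.residueField x →ₐ[k] L :=
    { toFun := fun z => ⟨σ z, hσ z⟩
      map_one' := Subtype.ext (map_one σ)
      map_mul' := fun a b => Subtype.ext (map_mul σ a b)
      map_zero' := Subtype.ext (map_zero σ)
      map_add' := fun a b => Subtype.ext (map_add σ a b)
      commutes' := fun a => Subtype.ext (σ.commutes a) }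
  have hpt : X.fromSpecResidueField x ≫ p =
      Spec.map (CommRingCat.ofHom (algebraMap k (X.residueField x))) :=
    BaseChange.fromSpecResidueField_over k X x
  let pt : Spec (CommRingCat.of L) ⟶ BrSev.bc p L :=
    pullback.lift (Spec.map (CommRingCat.ofHom σL.toRingHom) ≫ X.fromSpecResidueField x) (𝟙 _) (by
      rw [Category.assoc, hpt, Category.id_comp]
      exact (Spec.map_comp _ _).symm.trans
        (congrArg Spec.map (CommRingCat.hom_ext σL.comp_algebraMap)))
  haveI : IsProper (BrSev.bcTo p L) := MorphismProperty.pullback_snd _ _ hp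
  haveI : IsAlgClosure L Ω := ⟨inferInstance, Algebra.IsAlgebraic.tower_top (K := k) L⟩
  obtain ⟨n, ⟨ε⟩⟩ := h Ω
  obtain ⟨εL⟩ := splitting_trans (p := p) L Ω ε
  obtain ⟨e⟩ := nonempty_splitting_of_point (BrSev.bcTo p L) εL pt (pullback.lift_snd _ _ _)
  exact ⟨L, inferInstance, inferInstance, inferInstance, inferInstance, n, isProjSpaceOver_of_splitting e⟩

end GrothLib.BSev5
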